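import Cfsg.Agent.H947.EPO.DBig
import Cfsg.Agent.H156.Ppd.PPlus
import Cfsg.Agent.H274.EPO.NoOmega
import Cfsg.Agent.H987.EP.Form
import Cfsg.Agent.H576.HT.Omega
import Cfsg.Agent.H12.EP.InstTwo

/-!
# S3499, own characteristic, socle `PΩ⁺_{2l}(2)` (helper947, task 6139)

* `core_pplus` : `Core P`, `Soc P ≃ PΩ⁺_{2l}(2)`, `char F = 2`, dimension at least 13: `|F| = 2` and `P = Ω(Q₁)` or the
  dimension is large, or `l = 5` and there is no invariant bilinear form.
* `own_pplus_of` : `|Q| ≤ |A| ^ e`, `e ≤ 5` or (`7 ≤ l` and `e ≤ l`): the socle of `A` is not `PΩ⁺_{2l}(2)`;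
* **`own_pplus_two`** : the same without the bound for the order (helper12's `ub_plus_two`).
-/

set_option autoImplicit false
set_option linter.unusedSectionVars false

namespace Cfsg.Agent.H947.EPO

open CoxeterSystem Cfsg.Agent.ChevalleyStructure.CoxeterGeom Cfsg.Agent.Tits.Roots Cfsg.Agent.Tits.Core
  Cfsg.Agent.Nodes.Reps Cfsg.Agent.Nodes.BNOf Cfsg.Agent.Nodes.Bruhat Cfsg.Agent.Nodes.RGDLib
open QuadraticMap
open Cfsg.Agent.LieClassical Cfsg.Agent.LieClassical.OrthCore Cfsg.Agent.LieClassical.OrthTrans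
open Cfsg.Agent.LieClassical.OrthSimple Cfsg.Agent.LieClassical.OrthFinite Cfsg.Agent.LieClassical.OrthForms
open Cfsg.Agent.TitsThree Cfsg.Agent.TitsThree.KSideO Cfsg.Agent.TitsThree.StdData
open Cfsg.Agent.Nodes Cfsg.Agent.Nodes.WittAll Cfsg.Agent.Nodes.WittInst Cfsg.Agent.Nodes.WittU
  Cfsg.Agent.TitsThree.Siegel Cfsg.Agent.TitsThree.SiegelGen
  Cfsg.Agent.TitsThree.WittFrame Cfsg.Agent.TitsThree.WBridge Cfsg.Agent.TitsThree.WittWeyl
  Cfsg.Agent.TitsThree.FrameCN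
open Cfsg.Agent.Nodes.WittRoot (Mono)
open Cfsg.Agent.Nodes.WittRGD (Tor)
open Cfsg.Agent.H905.Md Cfsg.Agent.H915.LD Cfsg.Agent.H925.Nat Cfsg.Agent.H911
open Cfsg.Agent.H67.Cross
open Cfsg.Agent.Omega.CR Cfsg.Agent.Omega.FOne.Lift.Sd
open Cfsg.Agent.KFacts.MulOdd.Inst (Lv)
open Cfsg.Agent.OddHalf.NI.Mult (up lo dg Coord)
open Cfsg.Agent.H156.Ppd Cfsg.Agent.H156.Ppd.PPlus
open Cfsg Cfsg.Geo
open scoped MatrixGroups Matrix

universe u

/-! ### the longest element of type `D₅` -/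

theorem w0_five {W : Type*} [Group W] (cs : CoxeterSystem (TypeD.M 3) W) {A : Fin 5 → Fin 5 → ℤ}
    (h : IsCartan (TypeD.M 3) A) (hA : A = mAD5) : ∃ w : W, ∀ i, rep cs h w (sr i) = -sr (Equiv.swap (3 : Fin 5) 4 i) := by
  subst hA
  refine ⟨cs.wordProd [0, 1, 2, 3, 4, 0, 1, 2, 3, 4, 0, 1, 2, 3, 4, 0, 1, 2, 3, 4], fun i => ?_⟩
  funext m
  have h1 := congrFun (H905.DC.co_wordProd cs h m [0, 1, 2, 3, 4, 0, 1, 2, 3, 4, 0, 1, 2, 3, 4, 0, 1, 2, 3, 4]) i
  change rep cs h _ (sr i) m = _ at h1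
  rw [h1]
  clear h1
  revert i m
  decide +kernel

theorem swap_five : ∀ i i' : Fin 5, 3 ≤ (i : ℕ) → 3 ≤ (i' : ℕ) → i ≠ i' → Equiv.swap (3 : Fin 5) 4 i = i' := by
  decide

/-! ### bilinear forms -/

section form

open Matrix Cfsg.Agent.H987.EP Cfsg.Agent.H987.EP.SForm

variable {ι : Type} [Fintype ι] [DecidableEq ι] {F : Type*} [Field F] {f : (ι → F) → (ι → F) → F}

/-- **The hypothesis of `mem_Jx_opp`, over the field itself.** -/
theorem hsd_self {G : Type*} [Group G] {φ : G →* GL ι F} (h : SForm (RingEquiv.refl F) f)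
    (hf : ∀ g x y, f ((φ g : Matrix ι ι F) *ᵥ x) ((φ g : Matrix ι ι F) *ᵥ y) = f x y) (B : Subgroup G) :
    Module.finrank F (fx (lrep φ) B) = Module.finrank F (fx (dualRep (lrep φ)) B) := by
  set C : Matrix ι ι F := gram f with hC
  have hdet : C.det ≠ 0 := h.det_gram
  have hun : C⁻¹ * C = 1 := Matrix.nonsing_inv_mul C (isUnit_iff_ne_zero.2 hdet)
  have hun' : C * C⁻¹ = 1 := Matrix.mul_nonsing_inv C (isUnit_iff_ne_zero.2 hdet)
  -- the isometries
  have hiso : ∀ g, (mrep φ g)ᵀ * C * mrep φ g = C := by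
    intro g
    have h1 := h.isom (hf g)
    have e : (φ g : Matrix ι ι F).map (RingEquiv.refl F) = (φ g : Matrix ι ι F) := by
      ext i j
      rfl
    rw [e] at h1
    exact h1
  -- the linear isomorphism
  let Θ : (ι → F) ≃+ Module.Dual F (ι → F) :=
    { toFun := fun y => dotProductEquiv F ι (C *ᵥ y)
      invFun := fun ψ => C⁻¹ *ᵥ (dotProductEquiv F ι).symm ψ
      left_inv := fun y => by
        beta_reduce
        rw [LinearEquiv.symm_apply_apply, Matrix.mulVec_mulVec, hun, Matrix.one_mulVec]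
      right_inv := fun ψ => by
        beta_reduce
        rw [Matrix.mulVec_mulVec, hun', Matrix.one_mulVec, LinearEquiv.apply_symm_apply]
      map_add' := fun x y => by
        rw [← map_add, ← Matrix.mulVec_add] }
  refine finrank_fx_of_semilinear (RingEquiv.refl F) Θ (fun c v => ?_) (fun g v => ?_) B
  · change dotProductEquiv F ι (C *ᵥ (c • v)) = c • dotProductEquiv F ι (C *ᵥ v)
    rw [← map_smul, ← Matrix.mulVec_smul]
  · change dotProductEquiv F ι (C *ᵥ (lrep φ g v)) = dualRep (lrep φ) g (dotProductEquiv F ι (C *ᵥ v))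
    have e2 : C * mrep φ g = (mrep φ g⁻¹)ᵀ * C := by
      have h3 : (mrep φ g⁻¹)ᵀ * ((mrep φ g)ᵀ * C * mrep φ g) = (mrep φ g⁻¹)ᵀ * C := by rw [hiso]
      rw [← h3, ← Matrix.mul_assoc, ← Matrix.mul_assoc, ← Matrix.transpose_mul, ← map_mul, mul_inv_cancel, map_one,
        Matrix.transpose_one, Matrix.one_mul]
    have e1 : C *ᵥ (lrep φ g v) = (mrep φ g⁻¹)ᵀ *ᵥ (C *ᵥ v) := by
      rw [Matrix.mulVec_mulVec, ← e2, ← Matrix.mulVec_mulVec]
      rfl
    rw [e1]
    ext i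
    simp only [LinearMap.comp_apply, dualRep_apply, dotProductEquiv_apply_apply, LinearMap.single_apply, lin_apply]
    rw [Matrix.mulVec_transpose, Matrix.dotProduct_mulVec]

end form

/-! ### the core -/

/-- **`PΩ⁺_{2l}(2)` in its own characteristic.** -/
theorem core_pplus {ι : Type} [Fintype ι] [DecidableEq ι] {F : Type u} [Field F] [Finite F] {P : Subgroup (GL ι F)}
    (hC : Core P) (h13 : 13 ≤ Fintype.card ι) [CharP F 2] {K : Type} [Field K] [Fintype K] [CharP K 2]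
    (hK : Fintype.card K = 2) {l : ℕ} (hl : 4 ≤ l) (e : Soc P ≃* POmega K (quadFormPlus l K)) {e' : ℕ}
    (he : Exp l e') : Nat.card F = 2 ∧
      ((∃ Q₁ : (ι → F) → F, IsNondegenerateQuadraticForm Q₁ ∧ P = omegaGL Q₁) ∨ Big l e' (Fintype.card ι) ∨
        (l = 5 ∧ 16 ≤ Fintype.card ι ∧ ¬ ∃ f : (ι → F) → (ι → F) → F, H987.EP.SForm (RingEquiv.refl F) f ∧
          FixesForm (matrixSet P) f)) := by
  classical
  have hp : Fact (Nat.Prime 2) := ⟨Nat.prime_two⟩
  obtain ⟨d, rfl⟩ : ∃ d, l = d + 2 := ⟨l - 2, by omega⟩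
  have hG : Good (plusForm (d + 2) K) := by
    apply good_of_finite (nondeg_plusForm (d + 2) K)
    rw [Module.finrank_fintype_fun_eq_card, Fintype.card_sum, Fintype.card_fin]
    omega
  rw [← coe_plusForm] at e
  have hfin := hfin (K := K) d
  have hA := amb_plus (F := K) (d + 2)
  have h0 := adm_plus (F := K) (d + 2)
  have hWf : Finite (TypeD.M d).Group := TypeD.finite_W (TypeD.M d).toCoxeterSystem
  have hR := rgd_restrict (rgdD hA h0 (TypeD.M d).toCoxeterSystem (p := 2))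
    (E (plusForm (d + 2) K)) (fun x _ => rgD_le _ hA x) (fun i => WittRGDD.nn_mem hA i)
  have hperf : commutator ↥(E (plusForm (d + 2) K)) = ⊤ := Five.commutator_top hG.E_perfect
  have hG1 : G1 (TypeD.M d).toCoxeterSystem (TypeD.isCartan d) (XX d K) = ⊤ := by
    have h1 := G1D_eq_top (wplus (d + 2) K) (MonoidHom.id (E (plusForm (d + 2) K))) Function.surjective_id h0
      (TypeD.M d).toCoxeterSystem
    rw [← h1]
    congr 1
    funext x
    exact (Subgroup.map_id _).symm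
  obtain ⟨Y, _, _, f, φ, n₁, C⟩ := H156.Ppd.exists_cov hC hR hG1 hperf (toPOmega_surjective hG) e
  have hpp : (2 : ℕ).Prime := Nat.prime_two
  have rk : ∀ i, ∀ r : ℕ, r.Prime → r ≠ 2 → NoCE 2 r ↥(Lv (XX d K) i) := fun i r hr hne => noCE hpp i hr hne
  have hT : ∀ s ∈ (TT d K).comap f, ∀ t ∈ (TT d K).comap f, s * t = t * s :=
    comap_comm C.ker C.cop C.surj hR rk C.gen TT_comm
  have hpow : ∀ t ∈ (TT d K).comap f, t ^ 2 ^ 1 = t :=
    comap_pow C.ker C.cop C.surj hR rk C.gen TT_comm (TT_pow fun x => by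
      rw [pow_one, ← hK]; exact FiniteField.pow_card x)
  have hD := C.finrank_D hC hT
  obtain ⟨j, hj1, hj⟩ := C.exists_j hC hT one_ne_zero hpow
  rw [pow_one] at hj
  have hF2 : Nat.card F = 2 := by
    have h1 : Nat.card F ∣ 2 := by
      rw [← hj]
      exact dvd_pow_self _ (by omega)
    have h2 : 1 < Nat.card F := Finite.one_lt_card
    exact (Nat.dvd_prime Nat.prime_two).1 h1 |>.resolve_left (by omega)
  refine ⟨hF2, ?_⟩
  have hnV := C.nontriv hC
  have hdim : Module.finrank F (ι → F) = Fintype.card ι := Module.finrank_fintype_fun_eq_card F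
  by_cases hd4 : d = 2
  · subst hd4
    have h1 := dBigFour mAD4_eq C.rgd (C.hirr hC) C.gen (C.hnt hC) hD
    rw [hdim] at h1
    rcases h1 with h1 | h1
    · omega
    · exact Or.inr (Or.inl (big_four he h1))
  · have hd3 : 3 ≤ d := by omega
    rcases dBig C.rgd (C.hirr hC) hd3 C.gen (C.hnt hC) hD he with ⟨hJ, hL⟩ | hb | ⟨hd, h16, i, i', hi, hi', hne, hiJ, hiJ'⟩
    · left
      obtain ⟨σ, θ, hθ⟩ := C.ident hC (ψ := mt (E (plusForm (d + 2) K))) (o := (0 : Fin (d + 2)))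
        (span_E hG (by rw [Fintype.card_sum, Fintype.card_fin]; omega))
        (natAt_D hA (by omega) rfl (TypeD.M d).toCoxeterSystem)
        (fixD (by omega) rfl (TypeD.M d).toCoxeterSystem) (surjD hA rfl) hR hJ hD hL
      obtain ⟨τ, rfl⟩ := ringEquiv_of_surj σ (identify_surj hC hθ)
      have hCj : CjOf (omegaGL (quadFormPlus (d + 2) F)) P := by
        refine cjOf_of (mem_omega_iff'' hG) (map_omega_glm τ fun v => ?_) hθ
        rw [coe_plusForm]
        exact quadFormPlus_map τ v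
      obtain ⟨Q₁, hQ₁, hP, -⟩ := hCj.omega_form (by
        rw [← coe_plusForm]
        exact H925.isND_of_nondeg (nondeg_plusForm (d + 2) F))
      exact ⟨Q₁, hQ₁, hP⟩
    · rw [hdim] at hb
      exact Or.inr (Or.inl hb)
    · right; right
      rw [hdim] at h16
      subst hd
      refine ⟨rfl, h16, ?_⟩
      rintro ⟨g, hg, hgP⟩
      obtain ⟨w, hw⟩ := w0_five (TypeD.M 3).toCoxeterSystem (TypeD.isCartan 3) mAD5_eq
      have hφ : ∀ y (u v : ι → F), g ((φ y : Matrix ι ι F) *ᵥ u) ((φ y : Matrix ι ι F) *ᵥ v) = g u v := by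
        intro y u v
        refine hgP _ ⟨φ y, ?_, rfl⟩ u v
        have : φ y ∈ φ.range := ⟨y, rfl⟩
        rwa [C.range] at this
      have h1 := H987.EP.mem_Jx_opp C.rgd (C.hirr hC) (hsd_self hg hφ) hw i
      rw [swap_five i i' hi hi' hne] at h1
      exact hiJ (h1.2 hiJ')

/-! ### the row -/

section final

open Cfsg.Agent.H274.EPO Cfsg.Agent.H914

variable {Q : Type} [Group Q] [Finite Q] {A : Subgroup Q} {Γ : Subgroup (MulAut Q)} {ι : Type} [Fintype ι]
    [DecidableEq ι] {F : Type} [Field F] [Fintype F] {S P : Subgroup (GL ι F)}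

/-- **S3499-VII13-PPlus**, with the bound for the order as a hypothesis. -/
theorem own_pplus_of (x : H419.EP.Big A Γ S P) (K : Type) [Field K] [Fintype K] (hc : ringChar F = ringChar K)
    (hK : Fintype.card K = 2) (l : ℕ) (hl : 4 ≤ l)
    (hS : Nonempty (H419.EP.socle P ≃* Cfsg.POmega K (Cfsg.quadFormPlus l K))) {e : ℕ}
    (hUB : Nat.card Q ≤ Nat.card A ^ e) (he : e ≤ 5 ∨ 7 ≤ l ∧ e ≤ l) : False := by
  obtain ⟨E⟩ := hS
  have hC : Core P := core_of_residual x.core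
  have hK2 : CharP K 2 := H12.EP.BT.charP_two hK
  have hF2 : CharP F 2 := by
    have h1 : ringChar F = 2 := by
      rw [hc]
      exact ringChar.eq K 2
    rw [← h1]
    exact ringChar.charP F
  obtain ⟨hF, h⟩ := core_pplus hC x.thirteen hK hl E he
  have hF' : Fintype.card F = 2 := by rw [← hF, Nat.card_eq_fintype_card]
  have hfin : Finite (POmega K (quadFormPlus l K)) := inferInstance
  have hA1 : Nat.card A ≤ 2 ^ (2 * l ^ 2 - l + 5) := by
    refine ((x.hasSoc' E).card_le.trans (H576.HT.aut_plus hl)).trans ?_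
    rw [hK]
    calc 12 * 2 ^ (2 * l ^ 2 - l + 1) ≤ 2 ^ 4 * 2 ^ (2 * l ^ 2 - l + 1) := Nat.mul_le_mul_right _ (by norm_num)
      _ = 2 ^ (2 * l ^ 2 - l + 5) := by
        rw [← pow_add]
        congr 1
        omega
  have hQ1 : Nat.card Q ≤ 2 ^ (e * (2 * l ^ 2 - l + 5)) := by
    refine hUB.trans ((Nat.pow_le_pow_left hA1 e).trans (le_of_eq ?_))
    rw [← pow_mul, mul_comm]
  rcases h with ⟨Q₁, h1, h2⟩ | hb | ⟨hl5, h16, hno⟩
  · exact no_omega x h1 h2
  · have h1 := x.ord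
    rw [hF'] at h1
    have h2 : 8 * Nat.card Q ≤ 2 ^ (e * (2 * l ^ 2 - l + 5) + 3) := by
      rw [pow_add]
      omega
    have h3 := (Nat.pow_le_pow_iff_right (by norm_num : 1 < 2)).1 (h1.trans h2)
    unfold Big at hb
    omega
  · subst hl5
    have he5 : e ≤ 5 := by
      rcases he with he | ⟨h7, he⟩
      · exact he
      · omega
    have hfix : ∀ {Qf : (ι → F) → F}, IsNondegenerateQuadraticForm Qf → S = omegaGL Qf → False := by
      intro Qf hQ hSo
      exact hno ⟨_, H987.EP.SForm.of_quadratic hQ,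
        fixesForm_polar (fixes_of_le x.le_S (by rw [hSo]; exact fixes_omegaGL))⟩
    rcases x.kind with ⟨-, ho, -, -, -⟩ | ⟨f, -, -, h3, -, -, -⟩ | ⟨q, hq, σ, f, -, -, -, -, -, -⟩ |
      ⟨Qf, hQ, hSo, -, -⟩
    · rw [hF'] at ho
      have h1 := (Nat.pow_le_pow_iff_right (by norm_num : 1 < 2)).1 (ho.trans hQ1)
      have h2 : 16 ^ 2 ≤ Fintype.card ι ^ 2 := Nat.pow_le_pow_left h16 2
      norm_num at h1 h2
      omega
    · omega
    · rw [hF'] at hq
      have h1 : q ≤ 1 ∨ 2 ≤ q := by omega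
      rcases h1 with h1 | h1
      · have : q ^ 2 ≤ 1 ^ 2 := Nat.pow_le_pow_left h1 2
        omega
      · have : 2 ^ 2 ≤ q ^ 2 := Nat.pow_le_pow_left h1 2
        omega
    · exact hfix hQ hSo

theorem sq_le_sixty (l : ℕ) (hl : 8 ≤ l) : 2 * l ^ 2 + l ≤ 5 * 60 ^ (l - 4) := by
  induction l, hl using Nat.le_induction with
  | base => norm_num
  | succ n hn ih =>
    have e : n + 1 - 4 = (n - 4) + 1 := by omega
    have e3 : 60 ^ (n - 4 + 1) = 60 ^ (n - 4) * 60 := pow_succ _ _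
    rw [e, e3]
    have e2 : 2 * (n + 1) ^ 2 + (n + 1) = 2 * n ^ 2 + 5 * n + 3 := by ring
    rw [e2]
    have h1 : n * 8 ≤ n * n := Nat.mul_le_mul_left _ hn
    have h2 : n ^ 2 = n * n := by ring
    omega

/-- **S3499-VII13-PPlus.** -/
theorem own_pplus_two (hg : H59.EP.TwoGen.{0}) (x : H419.EP.Big A Γ S P) (K : Type) [Field K] [Fintype K] (hc : ringChar F = ringChar K)
    (hK : Fintype.card K = 2) (l : ℕ) (hl : 4 ≤ l)
    (hS : Nonempty (H419.EP.socle P ≃* Cfsg.POmega K (Cfsg.quadFormPlus l K))) : False := by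
  have hS' := hS
  obtain ⟨E⟩ := hS'
  have hL : IsSimpleGroup (Cfsg.POmega K (Cfsg.quadFormPlus l K)) := by
    have := x.core.simple
    exact E.symm.isSimpleGroup
  have hLn : ¬ ∀ a b : Cfsg.POmega K (Cfsg.quadFormPlus l K), a * b = b * a := by
    intro h
    refine x.core.nonabelian ⟨⟨fun a b => ?_⟩⟩
    apply E.injective
    rw [map_mul, map_mul]
    exact h _ _
  have key : ∀ j : ℕ, 1 ≤ j → 2 * l ^ 2 + l ≤ 5 * 60 ^ j → Nat.card Q ≤ Nat.card A ^ (4 + j) := by
    intro j hj1 hj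
    have h1 := H12.EP.BT.ub_plus_two x.simple x.ept hg hK hl (x.hasSoc' E) hL hLn hj1 hj
    omega
  rcases Nat.lt_or_ge 11 l with h12 | h12
  · refine own_pplus_of x K hc hK l hl hS (key (l - 4) (by omega) (sq_le_sixty l (by omega))) (Or.inr ⟨by omega, by omega⟩)
  · refine own_pplus_of x K hc hK l hl hS (key 1 le_rfl ?_) (Or.inl le_rfl)
    have : l ^ 2 ≤ 11 ^ 2 := Nat.pow_le_pow_left h12 2
    omega

end final

end Cfsg.Agent.H947.EPO
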